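import Mathlib.Topology.Spectral.Basic
import Mathlib.Topology.Spectral.ConstructibleTopology
import Mathlib.Topology.Constructible
import Mathlib.Topology.Separation.Profinite
import Mathlib.Topology.Connected.TotallyDisconnected
import Mathlib.Topology.Order
import Mathlib.Topology.Separation.Basic
import Mathlib.Topology.Constructions
import Groth.Agent.ProEtW.Spectral

/-!
# Spectral spaces and the constructible topology

* `spectralSpace_of_generateFrom`: a T0 space is spectral as soon as there is a finer compact
  topology in which the members of some subbasis are clopen.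
* the constructible topology of a spectral space is compact, Hausdorff, finer than the topology;
  its clopens are the constructible sets.
-/

namespace Groth.Agent.SpecTop

open Set Topology TopologicalSpace

universe u

variable {X : Type*} [tX : TopologicalSpace X]

/-- `cons X` : short name for the constructible topology. -/
local notation "cons" => constructibleTopology

lemma isBasis_finiteInters {B : Set (Set X)} (hB : tX = generateFrom B) :
    IsTopologicalBasis ((fun f => ⋂₀ f) '' {f : Set (Set X) | f.Finite ∧ f ⊆ B}) :=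
  isTopologicalBasis_of_subbasis hB

/-- A T0 space with a finer compact topology in which the members of a subbasis are clopen is
spectral. -/
theorem spectralSpace_of_generateFrom {X : Type*} (τ : TopologicalSpace X) [tX : TopologicalSpace X]
    [T0Space X] (B : Set (Set X))
    (hB : tX = generateFrom B) (hcomp : @CompactSpace X τ)
    (hclop : ∀ U ∈ B, @IsClopen X τ U) : SpectralSpace X := by
  have hle : τ ≤ tX := by
    rw [hB]
    exact le_generateFrom fun U hU => (hclop U hU).2
  have hck : ∀ s : Set X, IsClosed[τ] s → IsCompact s := fun s hs => by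
    have h1 : @IsCompact X τ s := @IsClosed.isCompact X τ s hcomp hs
    have := @IsCompact.image X X τ tX s id h1 (continuous_id_of_le hle)
    rwa [image_id] at this
  have hbas := isBasis_finiteInters hB
  have hbc : ∀ b ∈ (fun f => ⋂₀ f) '' {f : Set (Set X) | f.Finite ∧ f ⊆ B}, @IsClopen X τ b := by
    rintro _ ⟨f, ⟨hf, hfB⟩, rfl⟩
    refine ⟨@isClosed_sInter X τ f fun U hU => (hclop U (hfB hU)).1,
      @Set.Finite.isOpen_sInter X τ f hf fun U hU => (hclop U (hfB hU)).2⟩
  have hbk : ∀ b ∈ (fun f => ⋂₀ f) '' {f : Set (Set X) | f.Finite ∧ f ⊆ B}, IsCompact b :=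
    fun b hb => hck b (hbc b hb).1
  have hco : ∀ U : Set X, IsOpen U → IsCompact U → IsClosed[τ] U := by
    intro U hU hUc
    obtain ⟨S, hS, hUS⟩ := hbas.open_eq_sUnion hU
    obtain ⟨T, hT⟩ := hUc.elim_finite_subcover (fun s : S => (s : Set X))
      (fun s => hbas.isOpen (hS s.2)) (by rw [hUS, sUnion_eq_iUnion])
    have hU' : U = ⋃ s ∈ T, (s : Set X) := hT.antisymm (iUnion₂_subset fun s _ => by
      rw [hUS]; exact subset_sUnion_of_mem s.2)
    rw [hU']
    letI := τ
    exact isClosed_biUnion_finset fun s _ => (hbc s (hS s.2)).1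
  haveI : CompactSpace X := ⟨hck univ (@isClosed_univ X τ)⟩
  haveI : PrespectralSpace X := .of_isTopologicalBasis hbas hbk
  haveI : QuasiSeparatedSpace X :=
    ⟨fun U V hU hUc hV hVc => hck _ (@IsClosed.inter X _ _ τ (hco U hU hUc) (hco V hV hVc))⟩
  haveI : QuasiSober X := by
    refine ⟨fun {Z} hZ hZc => ?_⟩
    let ι := {b : Set X // b ∈ (fun f => ⋂₀ f) '' {f : Set (Set X) | f.Finite ∧ f ⊆ B} ∧
      (Z ∩ b).Nonempty}
    have hZτ : IsClosed[τ] Z := hZc.mono hle
    have key : (Z ∩ ⋂ i : ι, (i : Set X)).Nonempty := by
      refine @IsCompact.inter_iInter_nonempty X τ Z ι (@IsClosed.isCompact X τ Z hcomp hZτ)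
        (fun i => (i : Set X)) (fun i => (hbc i i.2.1).1) fun s => ?_
      classical
      have := hZ.nonempty
      induction s using Finset.induction with
      | empty => simpa using this
      | insert a s _ ih =>
        have h := hZ.2 (a : Set X) (⋂ i ∈ s, ((i : ι) : Set X)) (hbas.isOpen a.2.1)
          (isOpen_biInter_finset fun i _ => hbas.isOpen i.2.1) a.2.2 ih
        simpa [Finset.set_biInter_insert] using h
    obtain ⟨η, hηZ, hη⟩ := key
    refine ⟨η, ?_⟩
    apply subset_antisymm (hZc.closure_subset_iff.2 (singleton_subset_iff.2 hηZ))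
    intro z hz
    rw [hbas.mem_closure_iff]
    intro b hb hzb
    exact ⟨η, mem_iInter.1 hη ⟨b, hb, z, hz, hzb⟩, rfl⟩
  exact {}

/-! ### The constructible topology of a spectral space -/

section Cons

variable (X) [SpectralSpace X]

lemma compactSpace_cons : @CompactSpace X (cons X) :=
  @Function.Surjective.compactSpace (WithConstructibleTopology X) X _ (cons X)
    (WithTopology.ofTopology : WithConstructibleTopology X → X)
    (WithTopology.continuous_ofTopology (t := cons X)) inferInstance
    (fun x => ⟨WithTopology.toTopology _ x, rfl⟩)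

variable {X}

omit [SpectralSpace X] in
lemma isOpen_cons_of_compactOpen {U : Set X} (hU : IsOpen U) (hUc : IsCompact U) :
    IsOpen[cons X] U :=
  hUc.isOpen_constructibleTopology_of_isOpen hU

omit [SpectralSpace X] in
lemma isClosed_cons_of_compactOpen {U : Set X} (hU : IsOpen U) (hUc : IsCompact U) :
    IsClosed[cons X] U :=
  @IsClosed.mk X (cons X) U (IsCompact.isOpen_constructibleTopology_of_isClosed (s := Uᶜ)
    (by rwa [compl_compl]) hU.isClosed_compl)

omit [SpectralSpace X] in
lemma isClopen_cons_of_compactOpen {U : Set X} (hU : IsOpen U) (hUc : IsCompact U) :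
    @IsClopen X (cons X) U :=
  ⟨isClosed_cons_of_compactOpen hU hUc, isOpen_cons_of_compactOpen hU hUc⟩

variable (X) in
lemma cons_le : cons X ≤ tX := by
  conv_rhs => rw [PrespectralSpace.isTopologicalBasis.eq_generateFrom (t := tX)]
  exact le_generateFrom fun U hU => isOpen_cons_of_compactOpen hU.1 hU.2

lemma isClosed_cons_of_isClosed {s : Set X} (hs : IsClosed s) : IsClosed[cons X] s :=
  hs.mono (cons_le X)

lemma isOpen_cons_of_isOpen {s : Set X} (hs : IsOpen s) : IsOpen[cons X] s :=
  hs.mono (cons_le X)

variable (X) in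
lemma continuous_id_cons : Continuous[cons X, tX] id :=
  continuous_id_of_le (cons_le X)

lemma isCompact_cons_of_isClosed {s : Set X} (hs : IsClosed[cons X] s) : @IsCompact X (cons X) s :=
  @IsClosed.isCompact X (cons X) s (compactSpace_cons X) hs

lemma isCompact_of_isClosed_cons {s : Set X} (hs : IsClosed[cons X] s) : IsCompact s := by
  have := @IsCompact.image X X (cons X) tX s id (isCompact_cons_of_isClosed hs) (continuous_id_cons X)
  rwa [image_id] at this

lemma exists_compactOpen_sep {x y : X} (h : x ≠ y) :
    ∃ U : Set X, IsOpen U ∧ IsCompact U ∧ ((x ∈ U ∧ y ∉ U) ∨ (y ∈ U ∧ x ∉ U)) := by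
  obtain ⟨O, hO, hxy⟩ := exists_isOpen_xor_mem h
  rcases hxy with ⟨hx, hy⟩ | ⟨hy, hx⟩
  · obtain ⟨U, ⟨hU, hUc⟩, hxU, hUO⟩ :=
      PrespectralSpace.isTopologicalBasis.exists_subset_of_mem_open hx hO
    exact ⟨U, hU, hUc, Or.inl ⟨hxU, fun h' => hy (hUO h')⟩⟩
  · obtain ⟨U, ⟨hU, hUc⟩, hyU, hUO⟩ :=
      PrespectralSpace.isTopologicalBasis.exists_subset_of_mem_open hy hO
    exact ⟨U, hU, hUc, Or.inr ⟨hyU, fun h' => hx (hUO h')⟩⟩

variable (X)

lemma totallySeparatedSpace_cons : @TotallySeparatedSpace X (cons X) := by
  refine (@totallySeparatedSpace_iff_exists_isClopen X (cons X)).2 fun x y h => ?_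
  obtain ⟨U, hU, hUc, ⟨hx, hy⟩ | ⟨hy, hx⟩⟩ := exists_compactOpen_sep h
  · exact ⟨U, isClopen_cons_of_compactOpen hU hUc, hx, hy⟩
  · exact ⟨Uᶜ, @IsClopen.compl X (cons X) _ (isClopen_cons_of_compactOpen hU hUc), hx,
      fun h' => h' hy⟩

lemma t2Space_cons : @T2Space X (cons X) :=
  @T2Space.mk X (cons X) fun x y h => by
    obtain ⟨U, hU, hxU, hyU⟩ :=
      (@totallySeparatedSpace_iff_exists_isClopen X (cons X)).1 (totallySeparatedSpace_cons X) h
    exact ⟨U, Uᶜ, hU.2, @IsClosed.isOpen_compl X (cons X) U hU.1, hxU, hyU, disjoint_compl_right⟩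

variable {X}

lemma isClosed_cons_of_isCompact_cons {s : Set X} (hs : @IsCompact X (cons X) s) :
    IsClosed[cons X] s :=
  @IsCompact.isClosed X (cons X) (t2Space_cons X) s hs

/-- A point in the closure of a constructibly closed set is a specialization of one of its points. -/
lemma exists_specializes_of_mem_closure {E : Set X} (hE : IsClosed[cons X] E) {x : X}
    (hx : x ∈ closure E) : ∃ e ∈ E, e ⤳ x := by
  let ι := {U : Set X // (IsOpen U ∧ IsCompact U) ∧ x ∈ U}
  have key : (E ∩ ⋂ i : ι, (i : Set X)).Nonempty := by
    refine @IsCompact.inter_iInter_nonempty X (cons X) E ι (isCompact_cons_of_isClosed hE)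
      (fun i => (i : Set X)) (fun i => isClosed_cons_of_compactOpen i.2.1.1 i.2.1.2) fun s => ?_
    rw [inter_comm]
    exact mem_closure_iff.1 hx _ (isOpen_biInter_finset fun i _ => i.2.1.1)
      (mem_iInter₂.2 fun i _ => i.2.2)
  obtain ⟨e, heE, he⟩ := key
  refine ⟨e, heE, specializes_iff_mem_closure.2 ?_⟩
  rw [PrespectralSpace.isTopologicalBasis.mem_closure_iff]
  exact fun b hb hxb => ⟨e, mem_iInter.1 he ⟨b, hb, hxb⟩, rfl⟩

lemma isClosed_of_stableUnderSpecialization {E : Set X} (hE : IsClosed[cons X] E)
    (hs : StableUnderSpecialization E) : IsClosed E := by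
  refine isClosed_of_closure_subset fun x hx => ?_
  obtain ⟨e, he, hex⟩ := exists_specializes_of_mem_closure hE hx
  exact hs hex he

lemma isOpen_of_stableUnderGeneralization {E : Set X} (hE : IsOpen[cons X] E)
    (hs : StableUnderGeneralization E) : IsOpen E := by
  rw [← isClosed_compl_iff]
  exact isClosed_of_stableUnderSpecialization (@IsOpen.isClosed_compl X (cons X) E hE)
    (stableUnderSpecialization_compl_iff.2 hs)

lemma isClopen_cons_of_isConstructible {E : Set X} (hE : IsConstructible E) :
    @IsClopen X (cons X) E := by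
  induction hE using IsConstructible.empty_union_induction with
  | open_retrocompact U hU hUr => exact isClopen_cons_of_compactOpen hU hUr.isCompact
  | union s _ t _ hs ht => exact @IsClopen.union X (cons X) s t hs ht
  | compl s _ hs => exact @IsClopen.compl X (cons X) s hs

lemma isConstructible_of_isClopen_cons {E : Set X} (hE : @IsClopen X (cons X) E) :
    IsConstructible E := by
  have hbas := @isTopologicalBasis_of_subbasis X (cons X) (constructibleTopologySubbasis X) rfl
  obtain ⟨S, hS, hES⟩ := @IsTopologicalBasis.open_eq_sUnion X (cons X) _ hbas E hE.2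
  obtain ⟨T, hT⟩ := @IsCompact.elim_finite_subcover X (cons X) E S (isCompact_cons_of_isClosed hE.1)
    (fun s : S => (s : Set X)) (fun s => @IsTopologicalBasis.isOpen X (cons X) _ _ hbas (hS s.2))
    (by rw [hES, sUnion_eq_iUnion])
  have hE' : E = ⋃ s ∈ (T : Set S), (s : Set X) := hT.antisymm (iUnion₂_subset fun s _ => by
    rw [hES]; exact subset_sUnion_of_mem s.2)
  rw [hE']
  refine IsConstructible.biUnion T.finite_toSet fun s _ => ?_
  obtain ⟨f, ⟨hf, hfB⟩, hfs⟩ := hS s.2
  rw [← hfs]
  refine IsConstructible.sInter hf fun U hU => ?_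
  rcases hfB hU with ⟨ho, hc⟩ | ⟨ho, hc⟩
  · exact (hc.isRetrocompact ho).isConstructible ho
  · rw [← isConstructible_compl]
    exact (hc.isRetrocompact ho.isOpen_compl).isConstructible ho.isOpen_compl

lemma isCompact_of_isConstructible {E : Set X} (hE : IsConstructible E) : IsCompact E :=
  isCompact_of_isClosed_cons (isClopen_cons_of_isConstructible hE).1

/-- A constructibly closed subspace of a spectral space is spectral. -/
theorem spectralSpace_of_isClosed_cons {E : Set X} (hE : IsClosed[cons X] E) :
    SpectralSpace E := by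
  haveI : T0Space E := Subtype.t0Space
  refine spectralSpace_of_generateFrom (TopologicalSpace.induced Subtype.val (cons X))
    ((Subtype.val ⁻¹' ·) '' {U : Set X | IsOpen U ∧ IsCompact U}) ?_ ?_ ?_
  · change TopologicalSpace.induced Subtype.val tX = _
    conv_lhs => rw [PrespectralSpace.isTopologicalBasis.eq_generateFrom (t := tX)]
    rw [induced_generateFrom_eq]
  · exact (@isCompact_iff_compactSpace X (cons X) E).1 (isCompact_cons_of_isClosed hE)
  · rintro _ ⟨U, ⟨hU, hUc⟩, rfl⟩
    exact ⟨@IsClosed.preimage E X (TopologicalSpace.induced Subtype.val (cons X)) (cons X) _ continuous_induced_dom U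
      (isClosed_cons_of_compactOpen hU hUc),
      @IsOpen.preimage E X (TopologicalSpace.induced Subtype.val (cons X)) (cons X) _ continuous_induced_dom U
      (isOpen_cons_of_compactOpen hU hUc)⟩

end Cons

/-! ### Spectral maps -/

section Maps

variable {Y : Type*} [tY : TopologicalSpace Y]

lemma continuous_cons_of_isSpectralMap {f : X → Y} (hf : IsSpectralMap f) :
    Continuous[cons X, cons Y] f := by
  rw [show cons Y = generateFrom (constructibleTopologySubbasis Y) from rfl,
    continuous_generateFrom_iff]
  rintro s (⟨ho, hc⟩ | ⟨ho, hc⟩)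
  · exact isOpen_cons_of_compactOpen (ho.preimage hf.continuous)
      (hf.isCompact_preimage_of_isOpen ho hc)
  · refine IsCompact.isOpen_constructibleTopology_of_isClosed ?_ (ho.preimage hf.continuous)
    rw [← preimage_compl]
    exact hf.isCompact_preimage_of_isOpen ho.isOpen_compl hc

lemma isSpectralMap_of_continuous_cons [SpectralSpace X] {f : X → Y} (hf : Continuous f)
    (h : Continuous[cons X, cons Y] f) : IsSpectralMap f :=
  ⟨hf, fun _ ho hc => isCompact_of_isClosed_cons
    (@IsClosed.preimage X Y (cons X) (cons Y) f h _ (isClosed_cons_of_compactOpen ho hc))⟩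

lemma isClosed_cons_range [SpectralSpace X] [SpectralSpace Y] {f : X → Y}
    (h : Continuous[cons X, cons Y] f) : IsClosed[cons Y] (range f) :=
  isClosed_cons_of_isCompact_cons
    (@isCompact_range X Y (cons X) (cons Y) (compactSpace_cons X) f h)

lemma isClosed_cons_image [SpectralSpace X] [SpectralSpace Y] {f : X → Y}
    (h : Continuous[cons X, cons Y] f) {s : Set X} (hs : IsClosed[cons X] s) :
    IsClosed[cons Y] (f '' s) :=
  isClosed_cons_of_isCompact_cons
    (@IsCompact.image X Y (cons X) (cons Y) s f (isCompact_cons_of_isClosed hs) h)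

end Maps

/-! ### Examples: finite spaces, products, powers of the Sierpiński space -/

lemma spectralSpace_of_finite [Finite X] [T0Space X] : SpectralSpace X :=
  spectralSpace_of_generateFrom (⊥ : TopologicalSpace X) {U | IsOpen U}
    (isTopologicalBasis_opens.eq_generateFrom)
    (@Finite.compactSpace X ⊥ _) fun U _ => by
      letI : TopologicalSpace X := ⊥
      haveI : DiscreteTopology X := ⟨rfl⟩
      exact isClopen_discrete U

lemma isSpectralMap_of_finite {Y : Type*} [TopologicalSpace Y] [Finite X] {f : X → Y}
    (hf : Continuous f) : IsSpectralMap f :=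
  ⟨hf, fun _ _ _ => (Set.toFinite _).isCompact⟩

theorem spectralSpace_prod (X Y : Type*) [TopologicalSpace X] [TopologicalSpace Y] [SpectralSpace X]
    [SpectralSpace Y] : SpectralSpace (X × Y) := by
  refine spectralSpace_of_generateFrom (@instTopologicalSpaceProd X Y (cons X) (cons Y)) _
    (((PrespectralSpace.isTopologicalBasis (X := X)).prod
      (PrespectralSpace.isTopologicalBasis (X := Y))).eq_generateFrom)
    (@instCompactSpaceProd X Y (cons X) (cons Y) (compactSpace_cons X) (compactSpace_cons Y)) ?_
  rintro _ ⟨U, hU, V, hV, rfl⟩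
  exact @IsClopen.prod X Y (cons X) (cons Y) U V (isClopen_cons_of_compactOpen hU.1 hU.2)
    (isClopen_cons_of_compactOpen hV.1 hV.2)

theorem spectralSpace_sierpinski_pi (I : Type*) : SpectralSpace (I → Prop) := by
  haveI : T0Space Prop := ⟨fun a b hab => propext
    ((hab.mem_open_iff (s := {p : Prop | p}) (isOpen_iff_continuous_mem.2 continuous_id)))⟩
  refine spectralSpace_of_generateFrom (@Pi.topologicalSpace I (fun _ => Prop) fun _ => ⊥)
    (range fun i => {g : I → Prop | g i}) ?_ ?_ ?_
  · show (⨅ i, TopologicalSpace.induced (fun g : I → Prop => g i) sierpinskiSpace) = _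
    have h : ∀ i : I, TopologicalSpace.induced (fun g : I → Prop => g i) sierpinskiSpace =
        generateFrom {{g : I → Prop | g i}} := fun i => by
      rw [show sierpinskiSpace = generateFrom {{True}} from rfl, induced_generateFrom_eq,
        image_singleton]
      congr 2
      ext g
      simp
    simp only [h]
    rw [← generateFrom_iUnion, iUnion_singleton_eq_range]
  · exact @Pi.compactSpace I (fun _ => Prop) (fun _ => ⊥) fun _ => @Finite.compactSpace Prop ⊥ _
  · rintro _ ⟨i, rfl⟩
    letI : TopologicalSpace Prop := ⊥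
    haveI : DiscreteTopology Prop := ⟨rfl⟩
    exact (isClopen_discrete ({p | p} : Set Prop)).preimage (continuous_apply i)

/-- A map to a power of the Sierpiński space given by compact opens is spectral. -/
lemma isSpectralMap_to_pi {X : Type*} [TopologicalSpace X] [SpectralSpace X] {I : Type*}
    (U : I → Set X) (hU : ∀ i, IsOpen (U i) ∧ IsCompact (U i)) :
    IsSpectralMap (fun x i => x ∈ U i : X → I → Prop) := by
  haveI := spectralSpace_sierpinski_pi I
  have hc : Continuous (fun x i => x ∈ U i : X → I → Prop) :=
    continuous_pi fun i => isOpen_iff_continuous_mem.1 (hU i).1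
  refine ⟨hc, fun W hWo hWc => isCompact_of_isClosed_cons ?_⟩
  -- `W` is a finite union of finite intersections of the subbasic sets
  have hbas := isTopologicalBasis_pi (fun _ : I => (isTopologicalBasis_opens (α := Prop)))
  obtain ⟨S, hS, hWS⟩ := hbas.open_eq_sUnion hWo
  obtain ⟨T, hT⟩ := hWc.elim_finite_subcover (fun s : S => (s : Set (I → Prop)))
    (fun s => hbas.isOpen (hS s.2)) (by rw [hWS, sUnion_eq_iUnion])
  have hW' : W = ⋃ s ∈ T, (s : Set (I → Prop)) := hT.antisymm (iUnion₂_subset fun s _ => by
    rw [hWS]; exact subset_sUnion_of_mem s.2)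
  rw [hW', preimage_iUnion₂]
  refine @isClosed_biUnion_finset X _ (cons X) _ _ fun s _ => ?_
  obtain ⟨V, F, hV, hs⟩ := hS s.2
  rw [hs, pi_def, preimage_iInter₂]
  refine @isClosed_biInter X _ (cons X) _ _ fun i hi => ?_
  -- an open subset of `Prop` is `∅`, `{True}` or `univ`
  have hVi := hV i hi
  by_cases hF : False ∈ V i
  · have : V i = univ := by
      apply eq_univ_of_forall
      intro p
      have hmem : ∀ W : Set Prop, GenerateOpen {{True}} W → False ∈ W → W = univ := by
        intro W hW
        induction hW with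
        | basic s hs => intro h; rw [mem_singleton_iff.1 hs] at h; simp at h
        | univ => intro _; rfl
        | inter s t _ _ h1 h2 => intro h; rw [h1 h.1, h2 h.2, inter_self]
        | sUnion S _ ih =>
          rintro ⟨s, hs, hsm⟩
          exact eq_univ_of_subset (subset_sUnion_of_mem hs) (ih s hs hsm)
      rw [hmem (V i) hVi hF]
      trivial
    rw [this]
    exact @isClosed_univ X (cons X)
  · by_cases hT' : True ∈ V i
    · have heq : ((fun x i => x ∈ U i : X → I → Prop) ⁻¹' ((fun g => g i) ⁻¹' V i)) = U i := by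
        ext x
        by_cases hx : x ∈ U i
        · simp [hx, hT']
        · simp [hx, hF]
      exact heq ▸ isClosed_cons_of_compactOpen (hU i).1 (hU i).2
    · have heq : ((fun x i => x ∈ U i : X → I → Prop) ⁻¹' ((fun g => g i) ⁻¹' V i)) = ∅ := by
        ext x
        by_cases hx : x ∈ U i
        · simp [hx, hT']
        · simp [hx, hF]
      exact heq ▸ @isClosed_empty X (cons X)

/-- Compact opens give an embedding into a power of the Sierpiński space. -/
lemma isEmbedding_to_pi (X : Type*) [tX : TopologicalSpace X] [SpectralSpace X] :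
    IsEmbedding (fun x (U : {U : Set X // IsOpen U ∧ IsCompact U}) => x ∈ (U : Set X)) := by
  refine ⟨⟨le_antisymm ?_ ?_⟩, fun x y hxy => ?_⟩
  · exact (continuous_pi fun U : {U : Set X // IsOpen U ∧ IsCompact U} =>
      isOpen_iff_continuous_mem.1 U.2.1).le_induced
  · conv_rhs => rw [PrespectralSpace.isTopologicalBasis.eq_generateFrom (t := tX)]
    refine le_generateFrom fun U hU => ?_
    exact ⟨{g | g ⟨U, hU⟩}, isOpen_iff_continuous_mem.2 (continuous_apply _), rfl⟩
  · by_contra hne
    obtain ⟨U, hU, hUc, h⟩ := exists_compactOpen_sep hne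
    have := congrFun hxy ⟨U, hU, hUc⟩
    simp only [eq_iff_iff] at this
    tauto

/-- Spectrality transfers along homeomorphisms. -/
lemma spectralSpace_of_homeomorph {X Y : Type*} [TopologicalSpace X] [TopologicalSpace Y]
    [SpectralSpace X] (e : Y ≃ₜ X) : SpectralSpace Y :=
  ProEtW.Spectral.spectralSpace_of_isClosedEmbedding e.isClosedEmbedding

end Groth.Agent.SpecTop
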