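import Groth.Agent.SpecTop.Basic
import Mathlib.Topology.Category.TopCat.Limits.Cofiltered
import Mathlib.CategoryTheory.Filtered.Basic
import Mathlib.CategoryTheory.Limits.Types.Limits

/-!
# Limits of spectral spaces with spectral transition maps
-/

namespace Groth.Agent.SpecTop

open Set Topology TopologicalSpace CategoryTheory CategoryTheory.Limits

universe u

variable {J : Type u} [SmallCategory J] {F : J ⥤ TopCat.{u}} {c : Cone F}

lemma exists_point (hc : IsLimit c) (s : ∀ j, F.obj j)
    (hs : ∀ {i j} (a : i ⟶ j), F.map a (s i) = s j) :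
    ∃ x : c.pt, ∀ j, c.π.app j x = s j := by
  obtain ⟨x, hx, -⟩ := (Types.isLimit_iff ((forget TopCat).mapCone c)).1
    ⟨isLimitOfPreserves (forget TopCat) hc⟩ s (fun a => hs a)
  exact ⟨x, hx⟩

lemma π_injective (hc : IsLimit c) {x y : c.pt} (h : ∀ j, c.π.app j x = c.π.app j y) : x = y := by
  obtain ⟨z, -, hz⟩ := (Types.isLimit_iff ((forget TopCat).mapCone c)).1
    ⟨isLimitOfPreserves (forget TopCat) hc⟩ (fun j => c.π.app j y)
    (fun a => ConcreteCategory.congr_hom (c.w a) y)
  exact (hz x h).trans (hz y fun j => rfl).symm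

lemma π_compat {i j : J} (a : i ⟶ j) (x : c.pt) : F.map a (c.π.app i x) = c.π.app j x :=
  ConcreteCategory.congr_hom (c.w a) x

lemma preimage_π_map {i j : J} (a : i ⟶ j) (s : Set (F.obj j)) :
    c.π.app i ⁻¹' (F.map a ⁻¹' s) = c.π.app j ⁻¹' s := by
  ext x
  simp only [mem_preimage, π_compat]

/-- The constructible topology on a limit cone: the infimum of the induced ones. -/
@[reducible] def limCons (c : Cone F) : TopologicalSpace c.pt :=
  ⨅ j, (constructibleTopology (F.obj j)).induced (c.π.app j)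

lemma continuous_π_limCons (j : J) :
    Continuous[limCons c, constructibleTopology (F.obj j)] (c.π.app j) :=
  continuous_iInf_dom (i := j) continuous_induced_dom

lemma isClosed_preimage_limCons {j : J} {s : Set (F.obj j)}
    (hs : IsClosed[constructibleTopology (F.obj j)] s) :
    IsClosed[limCons c] (c.π.app j ⁻¹' s) :=
  @IsClosed.preimage _ _ (limCons c) (constructibleTopology (F.obj j)) _ (continuous_π_limCons j) _ hs

lemma isClopen_preimage_limCons {j : J} {s : Set (F.obj j)}
    (hs : @IsClopen (F.obj j) (constructibleTopology (F.obj j)) s) :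
    @IsClopen c.pt (limCons c) (c.π.app j ⁻¹' s) :=
  @IsClopen.preimage _ _ (limCons c) (constructibleTopology (F.obj j)) _ hs _ (continuous_π_limCons j)

variable (hF : ∀ j, SpectralSpace (F.obj j))

include hF in
lemma limCons_le (hc : IsLimit c) : limCons c ≤ c.pt.str := by
  rw [TopCat.induced_of_isLimit c hc]
  refine le_iInf fun j => (iInf_le _ j).trans (induced_mono ?_)
  haveI := hF j
  exact cons_le _

variable (hFm : ∀ {i j : J} (a : i ⟶ j), IsSpectralMap (F.map a : F.obj i → F.obj j))

include hFm in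
lemma continuous_map_cons {i j : J} (a : i ⟶ j) :
    Continuous[constructibleTopology (F.obj i), constructibleTopology (F.obj j)] (F.map a) :=
  continuous_cons_of_isSpectralMap (hFm a)

include hF hFm in
lemma compactSpace_limCons (hc : IsLimit c) : @CompactSpace c.pt (limCons c) := by
  letI t : ∀ j, TopologicalSpace (F.obj j) := fun j => constructibleTopology (F.obj j)
  haveI : ∀ j, @CompactSpace (F.obj j) (t j) := fun j => @compactSpace_cons (F.obj j) (F.obj j).str (hF j)
  haveI : ∀ j, @T2Space (F.obj j) (t j) := fun j => @t2Space_cons (F.obj j) (F.obj j).str (hF j)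
  letI := limCons c
  let e : c.pt → ∀ j, F.obj j := fun x j => c.π.app j x
  have hr : range e = ⋂ (i : J) (j : J) (a : i ⟶ j), {s | F.map a (s i) = s j} := by
    ext s
    simp only [mem_iInter, mem_ofPred_eq]
    constructor
    · rintro ⟨x, rfl⟩ i j a
      exact π_compat a x
    · intro hs
      obtain ⟨x, hx⟩ := exists_point hc s (fun a => hs _ _ a)
      exact ⟨x, funext hx⟩
  have hind : IsInducing e := ⟨by
    simp only [Pi.topologicalSpace, induced_iInf, induced_compose, Function.comp_def, e, t]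
    rfl⟩
  have hcl : IsClosed (range e) := by
    rw [hr]
    refine isClosed_iInter fun i => isClosed_iInter fun j => isClosed_iInter fun a => ?_
    exact isClosed_eq ((continuous_map_cons hFm a).comp (continuous_apply i)) (continuous_apply j)
  exact ⟨by rw [hind.isCompact_iff, image_univ]; exact hcl.isCompact⟩

include hF hFm in
lemma isCompact_of_isClosed_limCons (hc : IsLimit c) {s : Set c.pt} (hs : IsClosed[limCons c] s) :
    IsCompact s := by
  have h1 : @IsCompact c.pt (limCons c) s :=
    @IsClosed.isCompact _ (limCons c) s (compactSpace_limCons hF hFm hc) hs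
  have := @IsCompact.image _ _ (limCons c) c.pt.str s id h1 (continuous_id_of_le (limCons_le hF hc))
  rwa [image_id] at this

include hF hFm in
/-- Existence of a point of the limit with prescribed constructibly closed conditions. -/
lemma exists_point_of_fip [IsCofiltered J] (hc : IsLimit c) (Z : ∀ j, Set (F.obj j))
    (hZ : ∀ j, IsClosed[constructibleTopology (F.obj j)] (Z j))
    (h : ∀ (O : Finset J) (k : J) (p : ∀ j ∈ O, k ⟶ j),
      ∃ z : F.obj k, ∀ j (hj : j ∈ O), F.map (p j hj) z ∈ Z j) :
    ∃ x : c.pt, ∀ j, c.π.app j x ∈ Z j := by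
  classical
  letI t : ∀ j, TopologicalSpace (F.obj j) := fun j => constructibleTopology (F.obj j)
  haveI : ∀ j, @CompactSpace (F.obj j) (t j) := fun j => @compactSpace_cons (F.obj j) (F.obj j).str (hF j)
  haveI : ∀ j, @T2Space (F.obj j) (t j) := fun j => @t2Space_cons (F.obj j) (F.obj j).str (hF j)
  let A := Σ' (i j : J), (i ⟶ j)
  let C : A ⊕ J → Set (∀ j, F.obj j) := fun a => match a with
    | .inl a => {s | F.map a.2.2 (s a.1) = s a.2.1}
    | .inr j => {s | s j ∈ Z j}
  have hC : ∀ a, IsClosed (C a) := by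
    rintro (⟨i, j, a⟩ | j)
    · exact isClosed_eq ((continuous_map_cons hFm a).comp (continuous_apply i)) (continuous_apply j)
    · exact (hZ j).preimage (continuous_apply j)
  have hne : ∀ j, Nonempty (F.obj j) := fun j => by
    obtain ⟨z, -⟩ := h ∅ j (fun i hi => by simp at hi)
    exact ⟨z⟩
  have key := isCompact_univ.inter_iInter_nonempty C hC fun S => by
    let O : Finset J := S.biUnion fun a => match a with
      | .inl a => {a.1, a.2.1}
      | .inr j => {j}
    have m1 : ∀ {a : A}, Sum.inl a ∈ S → a.1 ∈ O ∧ a.2.1 ∈ O := fun {a} ha =>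
      ⟨Finset.mem_biUnion.2 ⟨_, ha, by simp⟩, Finset.mem_biUnion.2 ⟨_, ha, by simp⟩⟩
    have m2 : ∀ {j : J}, Sum.inr j ∈ S → j ∈ O := fun {j} hj =>
      Finset.mem_biUnion.2 ⟨_, hj, by simp⟩
    let H : Finset (Σ' (X Y : J) (_ : X ∈ O) (_ : Y ∈ O), X ⟶ Y) :=
      S.attach.biUnion fun a => match a with
        | ⟨.inl a, ha⟩ => {⟨a.1, a.2.1, (m1 ha).1, (m1 ha).2, a.2.2⟩}
        | ⟨.inr _, _⟩ => ∅
    obtain ⟨k, p, hp⟩ := IsCofiltered.inf_exists O H
    obtain ⟨z, hz⟩ := h O k (fun j hj => p hj)
    refine ⟨fun j => if hj : j ∈ O then F.map (p hj) z else (hne j).some, mem_univ _,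
      mem_iInter₂.2 fun a ha => ?_⟩
    rcases a with ⟨i, j, a⟩ | j
    · obtain ⟨hi, hj⟩ := m1 ha
      have hw := hp hi hj (f := a) (Finset.mem_biUnion.2 ⟨⟨_, ha⟩, Finset.mem_attach _ _, by simp⟩)
      show F.map a (dite (i ∈ O) _ _) = dite (j ∈ O) _ _
      rw [dif_pos hi, dif_pos hj, ← hw, Functor.map_comp]
      rfl
    · show dite (j ∈ O) _ _ ∈ Z j
      rw [dif_pos (m2 ha)]
      exact hz j _
  obtain ⟨s, -, hs⟩ := key
  rw [mem_iInter] at hs
  obtain ⟨x, hx⟩ := exists_point hc s (fun {i j} a => hs (Sum.inl ⟨i, j, a⟩))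
  exact ⟨x, fun j => (hx j).symm ▸ hs (Sum.inr j)⟩

include hF hFm in
/-- A constructibly closed set meeting all images of transition maps meets the image of the limit. -/
lemma nonempty_preimage_π [IsCofiltered J] (hc : IsLimit c) {i : J} {E : Set (F.obj i)}
    (hE : IsClosed[constructibleTopology (F.obj i)] E)
    (h : ∀ (j : J) (a : j ⟶ i), (F.map a ⁻¹' E).Nonempty) :
    (c.π.app i ⁻¹' E).Nonempty := by
  classical
  let Z : ∀ j, Set (F.obj j) := Function.update (fun j => univ) i E
  obtain ⟨x, hx⟩ := exists_point_of_fip hF hFm hc Z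
    (fun j => by
      by_cases e : j = i
      · subst e; simpa [Z] using hE
      · simp only [Z, Function.update_of_ne e]
        exact @isClosed_univ _ (constructibleTopology (F.obj j)))
    (fun O k p => by
      by_cases hi : i ∈ O
      · obtain ⟨z, hz⟩ := h k (p i hi)
        refine ⟨z, fun j hj => ?_⟩
        by_cases e : j = i
        · subst e; simpa [Z] using hz
        · simp [Z, Function.update_of_ne e]
      · obtain ⟨m, ⟨q⟩, ⟨r⟩⟩ : ∃ m, Nonempty (m ⟶ k) ∧ Nonempty (m ⟶ i) :=
          ⟨_, ⟨IsCofiltered.minToLeft k i⟩, ⟨IsCofiltered.minToRight k i⟩⟩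
        obtain ⟨z, -⟩ := h m r
        refine ⟨F.map q z, fun j hj => ?_⟩
        have e : j ≠ i := fun e => hi (e ▸ hj)
        simp [Z, Function.update_of_ne e])
  exact ⟨x, by simpa [Z] using hx i⟩

include hF hFm in
lemma exists_preimage_subset [IsCofiltered J] (hc : IsLimit c) {i : J} {E E' : Set (F.obj i)}
    (hE : IsClosed[constructibleTopology (F.obj i)] E)
    (hE' : IsOpen[constructibleTopology (F.obj i)] E')
    (h : c.π.app i ⁻¹' E ⊆ c.π.app i ⁻¹' E') :
    ∃ (j : J) (a : j ⟶ i), F.map a ⁻¹' E ⊆ F.map a ⁻¹' E' := by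
  by_contra hne
  push Not at hne
  obtain ⟨x, hxE, hxE'⟩ := nonempty_preimage_π hF hFm hc (E := E \ E')
    (@IsClosed.inter _ _ _ (constructibleTopology (F.obj i)) hE
      (@IsOpen.isClosed_compl _ (constructibleTopology (F.obj i)) _ hE'))
    (fun j a => by
      obtain ⟨z, hz, hz'⟩ := Set.not_subset.1 (hne j a)
      exact ⟨z, hz, hz'⟩)
  exact hxE' (h hxE)

include hF hFm in
lemma exists_preimage_eq [IsCofiltered J] (hc : IsLimit c) {i : J} {E E' : Set (F.obj i)}
    (hE : @IsClopen _ (constructibleTopology (F.obj i)) E)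
    (hE' : @IsClopen _ (constructibleTopology (F.obj i)) E')
    (h : c.π.app i ⁻¹' E = c.π.app i ⁻¹' E') :
    ∃ (j : J) (a : j ⟶ i), F.map a ⁻¹' E = F.map a ⁻¹' E' := by
  obtain ⟨j, a, ha⟩ := exists_preimage_subset hF hFm hc hE.1 hE'.2 h.subset
  obtain ⟨k, b, hb⟩ := exists_preimage_subset hF hFm hc hE'.1 hE.2 h.superset
  obtain ⟨l, p, q, w⟩ : ∃ (l : J) (p : l ⟶ j) (q : l ⟶ k), p ≫ a = q ≫ b :=
    IsCofiltered.cospan a b
  refine ⟨l, p ≫ a, subset_antisymm ?_ ?_⟩
  · rw [Functor.map_comp, TopCat.coe_comp, preimage_comp, preimage_comp]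
    exact preimage_mono ha
  · rw [w, Functor.map_comp, TopCat.coe_comp, preimage_comp, preimage_comp]
    exact preimage_mono hb

/-- The basis of preimages of compact opens. -/
def limBasis (c : Cone F) : Set (Set c.pt) :=
  {U | ∃ (j : J) (V : Set (F.obj j)), V ∈ {V | IsOpen V ∧ IsCompact V} ∧ U = c.π.app j ⁻¹' V}

include hF hFm in
lemma isTopologicalBasis_limBasis [IsCofiltered J] (hc : IsLimit c) :
    IsTopologicalBasis (limBasis c) :=
  TopCat.isTopologicalBasis_cofiltered_limit.{u, u, u} F c hc (fun j => {V | IsOpen V ∧ IsCompact V})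
    (fun j => (hF j).toPrespectralSpace.isTopologicalBasis)
    (fun j => ⟨isOpen_univ, (hF j).toCompactSpace.isCompact_univ⟩)
    (fun j U V hU hV => haveI := hF j
      ⟨hU.1.inter hV.1, hU.2.inter_of_isOpen hV.2 hU.1 hV.1⟩)
    (fun i j a V hV => ⟨hV.1.preimage (hFm a).continuous,
      (hFm a).isCompact_preimage_of_isOpen hV.1 hV.2⟩)

include hF hFm in
lemma spectralSpace_limit [IsCofiltered J] (hc : IsLimit c) : SpectralSpace c.pt := by
  haveI : T0Space c.pt := by
    refine ⟨fun x y hxy => π_injective hc fun j => ?_⟩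
    haveI := hF j
    exact (hxy.map (c.π.app j).hom.continuous).eq
  refine spectralSpace_of_generateFrom (limCons c) (limBasis c)
    (isTopologicalBasis_limBasis hF hFm hc).eq_generateFrom (compactSpace_limCons hF hFm hc) ?_
  rintro _ ⟨j, V, hV, rfl⟩
  exact isClopen_preimage_limCons (isClopen_cons_of_compactOpen hV.1 hV.2)

include hF hFm in
lemma isSpectralMap_π [IsCofiltered J] (hc : IsLimit c) (j : J) :
    IsSpectralMap (c.π.app j : c.pt → F.obj j) :=
  ⟨(c.π.app j).hom.continuous, fun _ ho hk => isCompact_of_isClosed_limCons hF hFm hc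
    (isClosed_preimage_limCons (isClosed_cons_of_compactOpen ho hk))⟩

include hF hFm in
lemma exists_compactOpen_preimage [IsCofiltered J] (hc : IsLimit c) {U : Set c.pt} (hU : IsOpen U)
    (hUc : IsCompact U) :
    ∃ (i : J) (Ui : Set (F.obj i)), IsOpen Ui ∧ IsCompact Ui ∧ c.π.app i ⁻¹' Ui = U := by
  classical
  have hbas := isTopologicalBasis_limBasis hF hFm hc
  obtain ⟨S, hS, hUS⟩ := hbas.open_eq_sUnion hU
  obtain ⟨T, hT⟩ := hUc.elim_finite_subcover (fun s : S => (s : Set c.pt))
    (fun s => hbas.isOpen (hS s.2)) (by rw [hUS, sUnion_eq_iUnion])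
  have hU' : U = ⋃ s ∈ T, (s : Set c.pt) := hT.antisymm (iUnion₂_subset fun s _ => by
    rw [hUS]; exact subset_sUnion_of_mem s.2)
  rw [hU']
  clear hT hU'
  induction T using Finset.induction with
  | empty => exact ⟨IsCofiltered.nonempty.some, ∅, isOpen_empty, isCompact_empty, by simp⟩
  | insert a T _ ih =>
    obtain ⟨i, Ui, hUo, hUk, hUi⟩ := ih
    obtain ⟨j, V, hV, ha⟩ := hS a.2
    let p := IsCofiltered.minToLeft i j
    let q := IsCofiltered.minToRight i j
    refine ⟨_, F.map q ⁻¹' V ∪ F.map p ⁻¹' Ui, (hV.1.preimage (hFm q).continuous).union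
      (hUo.preimage (hFm p).continuous), ((hFm q).isCompact_preimage_of_isOpen hV.1 hV.2).union
      ((hFm p).isCompact_preimage_of_isOpen hUo hUk), ?_⟩
    rw [Finset.set_biUnion_insert, preimage_union, preimage_π_map, preimage_π_map, hUi, ha]

include hF hFm in
lemma exists_constructible_preimage [IsCofiltered J] (hc : IsLimit c) {E : Set c.pt}
    (hE : IsConstructible E) :
    ∃ (i : J) (Ei : Set (F.obj i)), IsConstructible Ei ∧ c.π.app i ⁻¹' Ei = E := by
  haveI := spectralSpace_limit hF hFm hc
  induction hE using IsConstructible.empty_union_induction with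
  | open_retrocompact U hU hUr =>
    obtain ⟨i, Ui, ho, hk, he⟩ := exists_compactOpen_preimage hF hFm hc hU hUr.isCompact
    haveI := hF i
    exact ⟨i, Ui, (hk.isRetrocompact ho).isConstructible ho, he⟩
  | union s _ t _ hs ht =>
    obtain ⟨i, Ei, hi, rfl⟩ := hs
    obtain ⟨j, Ej, hj, rfl⟩ := ht
    haveI := hF i; haveI := hF j; haveI := hF (IsCofiltered.min i j)
    let p := IsCofiltered.minToLeft i j
    let q := IsCofiltered.minToRight i j
    refine ⟨_, F.map p ⁻¹' Ei ∪ F.map q ⁻¹' Ej, ?_, by
      rw [preimage_union, preimage_π_map, preimage_π_map]⟩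
    refine isConstructible_of_isClopen_cons ?_
    letI := constructibleTopology (F.obj (IsCofiltered.min i j))
    exact (@IsClopen.preimage _ _ _ (constructibleTopology (F.obj i)) _
        (isClopen_cons_of_isConstructible hi) _ (continuous_map_cons hFm p)).union
      (@IsClopen.preimage _ _ _ (constructibleTopology (F.obj j)) _
        (isClopen_cons_of_isConstructible hj) _ (continuous_map_cons hFm q))
  | compl s _ hs =>
    obtain ⟨i, Ei, hi, rfl⟩ := hs
    exact ⟨i, Eiᶜ, hi.compl, preimage_compl⟩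

end Groth.Agent.SpecTop
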